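import Groth.Prelude.Def_Exal
import Mathlib

/-!
# Lifting along square-zero surjections when all extensions by the algebra itself are trivial
-/

set_option autoImplicit false

namespace Groth.Agent.Lib.Helper97.DefAff

universe u v

variable {k : Type u} {B₀ C C' : Type v} [CommRing k] [CommRing B₀] [Algebra k B₀]
  [CommRing C] [CommRing C'] [Algebra k C] [Algebra k C']

theorem exists_lift_of_exal_trivial (hT : ∀ E : Exal.Ext k B₀ B₀, E.IsTrivial)
    (p : C →ₐ[k] C') (hp : Function.Surjective p) (s : B₀ →ₐ[k] C')
    (j : B₀ →+ C) (hjinj : Function.Injective j)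
    (hj0 : ∀ m, p (j m) = 0) (hj1 : ∀ c, p c = 0 → ∃ m, j m = c)
    (hj2 : ∀ (c : C) (b m : B₀), p c = s b → c * j m = j (b • m)) :
    ∃ s' : B₀ →ₐ[k] C, ∀ b, p (s' b) = s b := by
  let Esub : Subalgebra k (C × B₀) :=
    AlgHom.equalizer (p.comp (AlgHom.fst k C B₀)) (s.comp (AlgHom.snd k C B₀))
  have hmem : ∀ x : C × B₀, x ∈ Esub ↔ p x.1 = s x.2 := fun x => Iff.rfl
  let proj : Esub →ₐ[k] B₀ := (AlgHom.snd k C B₀).comp Esub.val
  let incl : B₀ →+ Esub :=
    { toFun := fun m => ⟨(j m, 0), by rw [hmem]; simp [hj0]⟩
      map_zero' := by
        apply Subtype.ext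
        simp
      map_add' := fun a b => by
        apply Subtype.ext
        simp }
  have hincl : ∀ m, ((incl m : Esub) : C × B₀) = (j m, 0) := fun m => rfl
  have hproj : ∀ x : Esub, proj x = (x : C × B₀).2 := fun x => rfl
  let E : Exal.Ext k B₀ B₀ :=
    { E := Esub
      proj := proj
      incl := incl
      isExtension :=
        { proj_surjective := fun b => by
            obtain ⟨c, hc⟩ := hp (s b)
            exact ⟨⟨(c, b), (hmem _).mpr hc⟩, rfl⟩
          incl_injective := fun a b hab => by
            apply hjinj
            have := congrArg (fun x : Esub => (x : C × B₀).1) hab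
            exact this
          exact := fun x => by
            constructor
            · intro hx
              rw [hproj] at hx
              have h1 : p (x : C × B₀).1 = 0 := by
                rw [(hmem _).mp x.2, hx, map_zero]
              obtain ⟨m, hm⟩ := hj1 _ h1
              refine ⟨m, ?_⟩
              apply Subtype.ext
              rw [hincl]
              exact Prod.ext hm hx.symm
            · rintro ⟨m, rfl⟩
              rfl
          mul_incl := fun x z => by
            apply Subtype.ext
            rw [hincl]
            change ((x : C × B₀) * (j z, 0)) = _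
            rw [hproj]
            refine Prod.ext ?_ ?_
            · exact hj2 _ _ _ ((hmem _).mp x.2)
            · simp } }
  obtain ⟨σ, hσ⟩ := hT E
  refine ⟨(AlgHom.fst k C B₀).comp (Esub.val.comp σ), fun b => ?_⟩
  change p ((σ b : Esub) : C × B₀).1 = s b
  rw [(hmem _).mp (σ b).2]
  have := hσ b
  change ((σ b : Esub) : C × B₀).2 = b at this
  rw [this]

end Groth.Agent.Lib.Helper97.DefAff
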