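import Groth.Agent.Lib.Helper97.Rigid.Lift
import Groth.Agent.Lib.Helper97.DefAff.ExalLift
import Groth.Agent.Lib.Helper6.NilpNakayama
import Mathlib

/-!
# Sections of flat deformations of a rigid algebra over a local Artinian base
-/

set_option autoImplicit false

namespace Groth.Agent.Lib.Helper97.DefAff

open IsLocalRing

universe u

/-- The infinitesimal lifting property for square-zero surjections whose kernel is a copy of
`B₀`. -/
def LiftProp (k B₀ : Type u) [CommRing k] [CommRing B₀] [Algebra k B₀] : Prop :=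
  ∀ (C C' : Type u) [CommRing C] [CommRing C'] [Algebra k C] [Algebra k C']
    (p : C →ₐ[k] C') (_ : Function.Surjective p) (s : B₀ →ₐ[k] C') (j : B₀ →+ C),
    Function.Injective j → (∀ m, p (j m) = 0) → (∀ c, p c = 0 → ∃ m, j m = c) →
    (∀ (c : C) (b m : B₀), p c = s b → c * j m = j (b • m)) → (∀ m m', j m * j m' = 0) →
    ∃ s' : B₀ →ₐ[k] C, ∀ b, p (s' b) = s b

theorem liftProp_of_subsingleton_T1 {k B₀ : Type u} [CommRing k] [CommRing B₀] [Algebra k B₀]
    (hT : Subsingleton (CotT.T1 (CotT.canon k B₀) B₀)) : LiftProp k B₀ :=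
  fun _ _ _ _ _ _ p hp s j hjinj hj0 hj1 hj2 hj3 =>
    Groth.Agent.Lib.Helper97.Rigid.exists_lift_of_subsingleton_T1
      (CotT.canon k B₀) p hp s B₀ hT j hjinj hj0 hj1 hj2 hj3

theorem liftProp_of_exal_trivial {k B₀ : Type u} [CommRing k] [CommRing B₀] [Algebra k B₀]
    (hT : ∀ E : Exal.Ext k B₀ B₀, E.IsTrivial) : LiftProp k B₀ :=
  fun _ _ _ _ _ _ p hp s j hjinj hj0 hj1 hj2 _ =>
    exists_lift_of_exal_trivial hT p hp s j hjinj hj0 hj1 hj2

section Coord

variable {A M : Type*} [CommRing A] [AddCommGroup M] [Module A M] {ι : Type*}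

lemma mem_smul_top_iff_repr (b : Module.Basis ι A M) (I : Ideal A) (x : M) :
    x ∈ I • (⊤ : Submodule A M) ↔ ∀ i, b.repr x i ∈ I := by
  rw [← b.span_eq, Submodule.mem_ideal_smul_span_iff_exists_sum]
  constructor
  · rintro ⟨a, ha, rfl⟩ i
    have : (a.sum fun i c => c • b i) = b.repr.symm a := by
      rw [Module.Basis.repr_symm_apply, Finsupp.linearCombination_apply]
    rw [this, LinearEquiv.apply_symm_apply]
    exact ha i
  · intro h
    refine ⟨b.repr x, h, ?_⟩
    have : ((b.repr x).sum fun i c => c • b i) = b.repr.symm (b.repr x) := by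
      rw [Module.Basis.repr_symm_apply, Finsupp.linearCombination_apply]
    rw [this, LinearEquiv.symm_apply_apply]

end Coord

variable {k A B' B₀ : Type u} [Field k] [CommRing A] [IsLocalRing A] [IsArtinianRing A]
  [Algebra k A] [CommRing B'] [Algebra A B'] [Algebra k B'] [IsScalarTower k A B']
  [Module.Flat A B'] [CommRing B₀] [Algebra k B₀]

lemma isNilpotent_maximalIdeal : IsNilpotent (maximalIdeal A) := by
  rw [← IsLocalRing.jacobson_eq_maximalIdeal (⊥ : Ideal A) bot_ne_top]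
  exact IsArtinianRing.isNilpotent_jacobson_bot

/-- Flatness: if `ε ∉ I'` then `ε b' ∈ I' B'` forces `b' ∈ 𝔪 B'`. -/
lemma mem_map_maximalIdeal_of_mul_mem (I' : Ideal A) (ε : A) (hε : ε ∉ I') (b' : B')
    (h : algebraMap A B' ε * b' ∈ I'.map (algebraMap A B')) :
    b' ∈ (maximalIdeal A).map (algebraMap A B') := by
  have hfree : Module.Free A B' :=
    Groth.Agent.Lib.Helper6.NilpNakayama.free_of_flat_of_nilpotent isNilpotent_maximalIdeal
  let b := Module.Free.chooseBasis A B'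
  have h1 : algebraMap A B' ε * b' ∈ I' • (⊤ : Submodule A B') := by
    rw [Ideal.smul_top_eq_map]
    exact h
  rw [mem_smul_top_iff_repr b] at h1
  have h2 : b' ∈ maximalIdeal A • (⊤ : Submodule A B') := by
    rw [mem_smul_top_iff_repr b]
    intro q
    have h3 := h1 q
    rw [← Algebra.smul_def, map_smul, Finsupp.smul_apply, smul_eq_mul] at h3
    by_contra hq
    have hu : IsUnit (b.repr b' q) := by
      by_contra hnu
      exact hq ((IsLocalRing.mem_maximalIdeal _).mpr hnu)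
    obtain ⟨u, hu⟩ := hu
    apply hε
    have : ε = (ε * b.repr b' q) * (↑u⁻¹ : A) := by
      rw [← hu, mul_assoc, Units.mul_inv, mul_one]
    rw [this]
    exact I'.mul_mem_right _ h3
  rw [Ideal.smul_top_eq_map] at h2
  exact h2

variable (π : B' →ₐ[k] B₀)

theorem exists_lift_step (hπ : Function.Surjective π)
    (hker : RingHom.ker (π : B' →+* B₀) = (maximalIdeal A).map (algebraMap A B'))
    (hT : LiftProp k B₀)
    (I I' : Ideal A) (ε : A) (hI : I ≤ maximalIdeal A) (hI'I : I' ≤ I) (hε : ε ∈ I)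
    (hεI' : ε ∉ I') (hsup : I = I' ⊔ Ideal.span {ε}) (hmI : maximalIdeal A * I ≤ I')
    (s : B₀ →ₐ[k] B' ⧸ I.map (algebraMap A B'))
    (hs : ∀ b₀, ∃ y, Ideal.Quotient.mk (I.map (algebraMap A B')) y = s b₀ ∧ π y = b₀) :
    ∃ s' : B₀ →ₐ[k] B' ⧸ I'.map (algebraMap A B'),
      ∀ b₀, ∃ y, Ideal.Quotient.mk (I'.map (algebraMap A B')) y = s' b₀ ∧ π y = b₀ := by
  let g : B' := algebraMap A B' ε
  have hπ0 : ∀ y : B', π y = 0 ↔ y ∈ (maximalIdeal A).map (algebraMap A B') := by
    intro y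
    rw [← hker]
    rfl
  have hImap : ∀ y : B', y ∈ I.map (algebraMap A B') → π y = 0 := fun y hy =>
    (hπ0 y).mpr (Ideal.map_mono hI hy)
  have hgI : g ∈ I.map (algebraMap A B') := Ideal.mem_map_of_mem _ hε
  have hgm : ∀ y : B', π y = 0 → g * y ∈ I'.map (algebraMap A B') := by
    intro y hy
    have h1 : g * y ∈ I.map (algebraMap A B') * (maximalIdeal A).map (algebraMap A B') :=
      Ideal.mul_mem_mul hgI ((hπ0 y).mp hy)
    rw [← Ideal.map_mul, mul_comm] at h1
    exact Ideal.map_mono hmI h1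
  let p : (B' ⧸ I'.map (algebraMap A B')) →ₐ[k] (B' ⧸ I.map (algebraMap A B')) :=
    Ideal.Quotient.factorₐ k (Ideal.map_mono hI'I)
  have hp : Function.Surjective p := by
    intro y
    obtain ⟨x, rfl⟩ := Ideal.Quotient.mk_surjective y
    exact ⟨Ideal.Quotient.mk _ x, rfl⟩
  have hwd : ∀ y y' : B', π y = π y' →
      Ideal.Quotient.mk (I'.map (algebraMap A B')) (g * y) = Ideal.Quotient.mk _ (g * y') := by
    intro y y' h
    rw [Ideal.Quotient.eq, ← mul_sub]
    apply hgm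
    rw [map_sub, h, sub_self]
  let σ₀ : B₀ → B' := Function.surjInv hπ
  have hσ₀ : ∀ b₀, π (σ₀ b₀) = b₀ := Function.surjInv_eq hπ
  let j : B₀ →+ (B' ⧸ I'.map (algebraMap A B')) := AddMonoidHom.mk'
    (fun b₀ => Ideal.Quotient.mk _ (g * σ₀ b₀)) (fun a b => by
      rw [← map_add, ← mul_add]
      apply hwd
      rw [hσ₀, map_add, hσ₀, hσ₀])
  have hjdef : ∀ (b₀ : B₀) (y : B'), π y = b₀ → j b₀ = Ideal.Quotient.mk _ (g * y) := by
    intro b₀ y hy
    change Ideal.Quotient.mk _ (g * σ₀ b₀) = _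
    apply hwd
    rw [hσ₀, hy]
  have hjinj : Function.Injective j := by
    rw [injective_iff_map_eq_zero]
    intro m hm
    rw [hjdef m (σ₀ m) (hσ₀ m), Ideal.Quotient.eq_zero_iff_mem] at hm
    have h1 := mem_map_maximalIdeal_of_mul_mem I' ε hεI' (σ₀ m) hm
    rw [← hσ₀ m]
    exact (hπ0 _).mpr h1
  have hj0 : ∀ m, p (j m) = 0 := by
    intro m
    rw [hjdef m (σ₀ m) (hσ₀ m)]
    change Ideal.Quotient.mk (I.map (algebraMap A B')) (g * σ₀ m) = 0
    rw [Ideal.Quotient.eq_zero_iff_mem]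
    exact Ideal.mul_mem_right _ _ hgI
  have hj1 : ∀ c, p c = 0 → ∃ m, j m = c := by
    intro c hc
    obtain ⟨y, rfl⟩ := Ideal.Quotient.mk_surjective c
    change Ideal.Quotient.mk (I.map (algebraMap A B')) y = 0 at hc
    rw [Ideal.Quotient.eq_zero_iff_mem, hsup, Ideal.map_sup, Ideal.map_span, Set.image_singleton,
      Submodule.mem_sup] at hc
    obtain ⟨y', hy', z, hz, rfl⟩ := hc
    rw [Ideal.mem_span_singleton'] at hz
    obtain ⟨b', rfl⟩ := hz
    refine ⟨π b', ?_⟩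
    rw [hjdef (π b') b' rfl, Ideal.Quotient.eq]
    have : g * b' - (y' + b' * algebraMap A B' ε) = -y' := by
      change algebraMap A B' ε * b' - (y' + b' * algebraMap A B' ε) = -y'
      ring
    rw [this]
    exact neg_mem hy'
  have hj2 : ∀ (c : B' ⧸ I'.map (algebraMap A B')) (b m : B₀), p c = s b →
      c * j m = j (b • m) := by
    intro c b m hc
    obtain ⟨y, rfl⟩ := Ideal.Quotient.mk_surjective c
    obtain ⟨y₀, hy₀, hπy₀⟩ := hs b
    have h1 : π y = b := by
      have h2 : Ideal.Quotient.mk (I.map (algebraMap A B')) y = Ideal.Quotient.mk _ y₀ := by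
        rw [hy₀, ← hc]
        rfl
      rw [Ideal.Quotient.eq] at h2
      have h3 := hImap _ h2
      rw [map_sub, sub_eq_zero] at h3
      rw [h3, hπy₀]
    rw [hjdef m (σ₀ m) (hσ₀ m), hjdef (b • m) (y * σ₀ m) (by rw [map_mul, h1, hσ₀, smul_eq_mul]),
      ← map_mul]
    congr 1
    ring
  have hj3 : ∀ m m', j m * j m' = 0 := by
    intro m m'
    rw [hjdef m (σ₀ m) (hσ₀ m), hjdef m' (σ₀ m') (hσ₀ m'), ← map_mul,
      Ideal.Quotient.eq_zero_iff_mem]
    have h1 : g * (σ₀ m * (g * σ₀ m')) ∈ I'.map (algebraMap A B') := by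
      apply hgm
      rw [map_mul, map_mul]
      have : π g = 0 := hImap g hgI
      rw [this, zero_mul, mul_zero]
    have : g * σ₀ m * (g * σ₀ m') = g * (σ₀ m * (g * σ₀ m')) := by ring
    rw [this]
    exact h1
  obtain ⟨s', hs'⟩ := hT _ _ p hp s j hjinj hj0 hj1 hj2 hj3
  refine ⟨s', fun b₀ => ?_⟩
  obtain ⟨y, hy⟩ := Ideal.Quotient.mk_surjective (s' b₀)
  obtain ⟨y₀, hy₀, hπy₀⟩ := hs b₀
  refine ⟨y, hy, ?_⟩
  have h2 : Ideal.Quotient.mk (I.map (algebraMap A B')) y = Ideal.Quotient.mk _ y₀ := by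
    rw [hy₀, ← hs' b₀, ← hy]
    rfl
  rw [Ideal.Quotient.eq] at h2
  have h3 := hImap _ h2
  rw [map_sub, sub_eq_zero] at h3
  rw [h3, hπy₀]

theorem exists_section_of_rigid (hπ : Function.Surjective π)
    (hker : RingHom.ker (π : B' →+* B₀) = (maximalIdeal A).map (algebraMap A B'))
    (hT : LiftProp k B₀) :
    ∃ s : B₀ →ₐ[k] B', ∀ b, π (s b) = b := by
  let S : Set (Ideal A) := {I | I ≤ maximalIdeal A ∧
    ∃ s : B₀ →ₐ[k] B' ⧸ I.map (algebraMap A B'),
      ∀ b₀, ∃ y, Ideal.Quotient.mk (I.map (algebraMap A B')) y = s b₀ ∧ π y = b₀}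
  have hne : S.Nonempty := by
    refine ⟨maximalIdeal A, le_rfl, ?_⟩
    have hker' : RingHom.ker π = (maximalIdeal A).map (algebraMap A B') := hker
    refine ⟨(Ideal.quotientEquivAlgOfEq k hker').toAlgHom.comp
      (Ideal.quotientKerAlgEquivOfSurjective hπ).symm.toAlgHom, fun b₀ => ?_⟩
    obtain ⟨y, rfl⟩ := hπ b₀
    refine ⟨y, ?_, rfl⟩
    change _ = Ideal.quotientEquivAlgOfEq k hker'
      ((Ideal.quotientKerAlgEquivOfSurjective hπ).symm (π y))
    rw [Ideal.quotientKerAlgEquivOfSurjective_symm_apply]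
    rfl
  obtain ⟨I₀, hI₀S, hmin⟩ := IsArtinian.set_has_minimal S hne
  obtain ⟨hI₀m, s₀, hs₀⟩ := hI₀S
  by_cases h0 : I₀ = ⊥
  · subst h0
    have hbot : (⊥ : Ideal A).map (algebraMap A B') = ⊥ := Ideal.map_bot
    let E : (B' ⧸ (⊥ : Ideal A).map (algebraMap A B')) ≃ₐ[k] B' :=
      (Ideal.quotientEquivAlgOfEq k hbot).trans (AlgEquiv.quotientBot k B')
    refine ⟨E.toAlgHom.comp s₀, fun b => ?_⟩
    obtain ⟨y, hy, hπy⟩ := hs₀ b
    change π (E (s₀ b)) = b
    rw [← hy]
    exact hπy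
  · exfalso
    obtain ⟨n, hn⟩ := isNilpotent_maximalIdeal (A := A)
    have hlt : maximalIdeal A * I₀ < I₀ := by
      refine lt_of_le_of_ne Ideal.mul_le_right ?_
      intro heq
      have hpow : ∀ i : ℕ, (maximalIdeal A) ^ i * I₀ = I₀ := by
        intro i
        induction i with
        | zero => rw [pow_zero, Ideal.one_eq_top, Ideal.top_mul]
        | succ i ih => rw [pow_succ, mul_assoc, heq, ih]
      have := hpow n
      rw [hn, Ideal.zero_eq_bot, Ideal.bot_mul] at this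
      exact h0 this.symm
    let T : Set (Ideal A) := {J | maximalIdeal A * I₀ ≤ J ∧ J < I₀}
    have hTne : T.Nonempty := ⟨maximalIdeal A * I₀, le_rfl, hlt⟩
    obtain ⟨I', hI'T, hmax⟩ := set_has_maximal_iff_noetherian.mpr
      (inferInstance : IsNoetherian A A) T hTne
    obtain ⟨hmI', hI'lt⟩ := hI'T
    obtain ⟨ε, hεI₀, hεI'⟩ := SetLike.exists_of_lt hI'lt
    have hsup : I₀ = I' ⊔ Ideal.span {ε} := by
      have hle : I' ⊔ Ideal.span {ε} ≤ I₀ :=
        sup_le hI'lt.le ((Ideal.span_singleton_le_iff_mem _).mpr hεI₀)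
      by_contra hne'
      have hlt' : I' ⊔ Ideal.span {ε} < I₀ := lt_of_le_of_ne hle (Ne.symm hne')
      have hI'J : I' < I' ⊔ Ideal.span {ε} := by
        refine lt_of_le_of_ne le_sup_left ?_
        intro heq
        apply hεI'
        rw [heq]
        exact Ideal.mem_sup_right (Ideal.mem_span_singleton_self ε)
      exact hmax _ ⟨hmI'.trans le_sup_left, hlt'⟩ hI'J
    obtain ⟨s', hs'⟩ := exists_lift_step π hπ hker hT I₀ I' ε hI₀m hI'lt.le hεI₀ hεI' hsup hmI'
      s₀ hs₀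
    exact hmin I' ⟨hI'lt.le.trans hI₀m, s', hs'⟩ hI'lt

end Groth.Agent.Lib.Helper97.DefAff
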