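import Groth.Agent.Lib.Helper97.DefAff.SmoothSection
import Groth.Agent.Lib.Helper97.DefAff.RigidSection

/-!
# Infinitesimal deformations of a rigid affine scheme are trivial
-/

set_option autoImplicit false

namespace Groth.Agent.Lib.Helper97.DefAff

open CategoryTheory CategoryTheory.Limits AlgebraicGeometry

universe u

variable {k A : Type u} [Field k] [CommRing A] [IsLocalRing A] [IsArtinianRing A] [Algebra k A]
  (e : A →ₐ[k] k) {B₀ : Type u} [CommRing B₀] [Algebra k B₀]

lemma ker_eq_maximalIdeal : RingHom.ker e.toRingHom = IsLocalRing.maximalIdeal A := by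
  have he : Function.Surjective e.toRingHom := fun c => ⟨algebraMap k A c, e.commutes c⟩
  have hmax : (RingHom.ker e.toRingHom).IsMaximal := RingHom.ker_isMaximal_of_surjective _ he
  exact IsLocalRing.eq_maximalIdeal hmax

lemma ΓSpecIso_hom_baseMap_specMap (c : k) :
    (Scheme.ΓSpecIso (CommRingCat.of B₀)).hom.hom
      (baseMap (Spec.map (CommRingCat.ofHom (algebraMap k B₀))) c) = algebraMap k B₀ c := by
  have hnat := Scheme.ΓSpecIso_naturality (CommRingCat.ofHom (algebraMap k B₀))
  have h1 := congrArg (fun f => f.hom ((Scheme.ΓSpecIso (CommRingCat.of k)).inv.hom c)) hnat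
  have h2 : (Scheme.ΓSpecIso (CommRingCat.of k)).hom.hom
      ((Scheme.ΓSpecIso (CommRingCat.of k)).inv.hom c) = c :=
    congrArg (fun f => f.hom c) (Scheme.ΓSpecIso (CommRingCat.of k)).inv_hom_id
  change (Scheme.ΓSpecIso (CommRingCat.of B₀)).hom.hom
    ((Spec.map (CommRingCat.ofHom (algebraMap k B₀))).appTop.hom
      ((Scheme.ΓSpecIso (CommRingCat.of k)).inv.hom c)) =
    algebraMap k B₀ ((Scheme.ΓSpecIso (CommRingCat.of k)).hom.hom
      ((Scheme.ΓSpecIso (CommRingCat.of k)).inv.hom c)) at h1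
  rw [h2] at h1
  exact h1

theorem exists_iso_trivial_of_liftProp (hL : LiftProp k B₀) {X' : Scheme.{u}}
    {i : Spec (CommRingCat.of B₀) ⟶ X'} {g : X' ⟶ Spec (CommRingCat.of A)} [Flat g]
    (hsq : IsPullback i (Spec.map (CommRingCat.ofHom (algebraMap k B₀))) g
      (Spec.map (CommRingCat.ofHom e.toRingHom))) :
    ∃ φ : X' ≅ pullback (Spec.map (CommRingCat.ofHom (algebraMap k B₀)))
        (Spec.map (CommRingCat.ofHom (algebraMap k A))),
      φ.hom ≫ pullback.snd (Spec.map (CommRingCat.ofHom (algebraMap k B₀)))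
        (Spec.map (CommRingCat.ofHom (algebraMap k A))) = g ∧
        i ≫ φ.hom = trivIncl e (Spec.map (CommRingCat.ofHom (algebraMap k B₀))) := by
  have he : Function.Surjective e.toRingHom := fun c => ⟨algebraMap k A c, e.commutes c⟩
  have hnil : IsNilpotent (RingHom.ker e.toRingHom) := isNilpotent_ker_of_isArtinianRing _
  have _ : IsAffine X' :=
    isAffine_of_isPullback e.toRingHom he (le_nilradical_of_isNilpotent hnil) hsq
  letI algA : Algebra A Γ(X', ⊤) := (baseMap g).toAlgebra
  letI algk : Algebra k Γ(X', ⊤) := ((baseMap g).comp (algebraMap k A)).toAlgebra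
  have _ : IsScalarTower k A Γ(X', ⊤) := IsScalarTower.of_algebraMap_eq fun c => rfl
  have _ : Module.Flat A Γ(X', ⊤) := flat_baseMap (g := g)
  have hΓbij : Function.Bijective (Scheme.ΓSpecIso (CommRingCat.of B₀)).hom.hom :=
    (ConcreteCategory.isIso_iff_bijective _).mp inferInstance
  let π : Γ(X', ⊤) →ₐ[k] B₀ :=
    { (Scheme.ΓSpecIso (CommRingCat.of B₀)).hom.hom.comp i.appTop.hom with
      commutes' := fun c => by
        change (Scheme.ΓSpecIso (CommRingCat.of B₀)).hom.hom
          (i.appTop.hom (baseMap g (algebraMap k A c))) = algebraMap k B₀ c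
        have h1 := RingHom.congr_fun (appTop_comp_baseMap e hsq) (algebraMap k A c)
        rw [RingHom.comp_apply] at h1
        rw [h1, RingHom.comp_apply]
        have h2 : e.toRingHom (algebraMap k A c) = c := e.commutes c
        rw [h2, ΓSpecIso_hom_baseMap_specMap] }
  have hπdef : ∀ y, π y = (Scheme.ΓSpecIso (CommRingCat.of B₀)).hom.hom (i.appTop.hom y) :=
    fun y => rfl
  have hπ : Function.Surjective π := hΓbij.2.comp (appTop_surjective e.toRingHom he hsq)
  have hker : RingHom.ker (π : Γ(X', ⊤) →+* B₀) =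
      (IsLocalRing.maximalIdeal A).map (algebraMap A Γ(X', ⊤)) := by
    rw [← ker_eq_maximalIdeal e]
    change _ = (RingHom.ker e.toRingHom).map (baseMap g)
    rw [← ker_appTop e.toRingHom he hsq]
    ext y
    rw [RingHom.mem_ker, RingHom.mem_ker]
    change π y = 0 ↔ _
    rw [hπdef]
    exact map_eq_zero_iff _ hΓbij.1
  obtain ⟨s₀, hs₀⟩ := exists_section_of_rigid π hπ hker hL
  refine exists_iso_trivial_of_section hnil hsq
    (s₀.toRingHom.comp (Scheme.ΓSpecIso (CommRingCat.of B₀)).hom.hom) ?_ ?_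
  · ext z
    apply hΓbij.1
    have := hs₀ ((Scheme.ΓSpecIso (CommRingCat.of B₀)).hom.hom z)
    rw [hπdef] at this
    exact this
  · ext c
    change s₀ ((Scheme.ΓSpecIso (CommRingCat.of B₀)).hom.hom
      (baseMap (Spec.map (CommRingCat.ofHom (algebraMap k B₀))) c)) = _
    rw [ΓSpecIso_hom_baseMap_specMap, s₀.commutes]
    rfl

end Groth.Agent.Lib.Helper97.DefAff
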