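import Groth.Agent.Lib.Helper6.ThickIsAffine
import Groth.Agent.Lib.Helper6.ThickAffine
import Mathlib

/-!
# Deformations of an affine scheme over a nilpotent thickening of a point are affine
-/

set_option autoImplicit false

namespace Groth.Agent.Lib.Helper97.DefAff

open CategoryTheory CategoryTheory.Limits AlgebraicGeometry

universe u

variable {k A : Type u} [CommRing k] [CommRing A] (e : A →+* k)
variable {X X' : Scheme.{u}} {i : X ⟶ X'} {x : X ⟶ Spec (CommRingCat.of k)}
  {g : X' ⟶ Spec (CommRingCat.of A)}

include e in
lemma surjective_specMap (he : Function.Surjective e) (hnil : RingHom.ker e ≤ nilradical A) :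
    Surjective (Spec.map (CommRingCat.ofHom e)) := by
  constructor
  intro p
  have h1 : p ∈ Set.range (PrimeSpectrum.comap e) := by
    rw [range_comap_of_surjective _ _ he]
    have h2 := (PrimeSpectrum.zeroLocus_eq_univ_iff (RingHom.ker e : Set A)).mpr hnil
    rw [h2]
    exact Set.mem_univ _
  obtain ⟨q, hq⟩ := h1
  exact ⟨q, hq⟩

lemma isClosedImmersion_of_isPullback (he : Function.Surjective e)
    (hsq : IsPullback i x g (Spec.map (CommRingCat.ofHom e))) : IsClosedImmersion i := by
  have h1 : IsClosedImmersion (Spec.map (CommRingCat.ofHom e)) :=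
    IsClosedImmersion.spec_of_surjective _ he
  exact MorphismProperty.of_isPullback hsq.flip h1

lemma surjective_of_isPullback (he : Function.Surjective e)
    (hnil : RingHom.ker e ≤ nilradical A)
    (hsq : IsPullback i x g (Spec.map (CommRingCat.ofHom e))) : Surjective i := by
  have h1 := surjective_specMap e he hnil
  exact MorphismProperty.of_isPullback (P := @Surjective) hsq.flip h1

lemma isAffine_of_isPullback [IsAffine X] (he : Function.Surjective e)
    (hnil : RingHom.ker e ≤ nilradical A)
    (hsq : IsPullback i x g (Spec.map (CommRingCat.ofHom e))) : IsAffine X' := by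
  have _ := isClosedImmersion_of_isPullback e he hsq
  have h2 := surjective_of_isPullback e he hnil hsq
  exact Groth.Agent.Lib.Helper6.ThickIsAffine.isAffine_of_thickening i h2.surj

end Groth.Agent.Lib.Helper97.DefAff
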