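import Groth.Agent.Lib.Helper6.ArtinFlat
import Groth.Agent.Lib.Helper6.NilpNakayama
import Mathlib

/-!
# A morphism of flat deformations over a nilpotent base is an isomorphism (ring level)
-/

set_option autoImplicit false

namespace Groth.Agent.Lib.Helper97.DefAff

open TensorProduct

section Module

variable {A : Type*} [CommRing A] (I : Ideal A) {M N : Type*} [AddCommGroup M] [AddCommGroup N]
  [Module A M] [Module A N]

/-- Nilpotent Nakayama + flatness: a linear map onto a flat module which is bijective modulo a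
nilpotent ideal (in elementwise form) is bijective. -/
theorem bijective_of_flat_of_nilpotent (hI : IsNilpotent I) [Module.Flat A N] (f : M →ₗ[A] N)
    (hs : ∀ y : N, ∃ x : M, y - f x ∈ I • (⊤ : Submodule A N))
    (hi : ∀ x : M, f x ∈ I • (⊤ : Submodule A N) → x ∈ I • (⊤ : Submodule A M)) :
    Function.Bijective f := by
  have hsurj : Function.Surjective f := by
    rw [← LinearMap.range_eq_top]
    apply Groth.Agent.Lib.Helper6.NilpNakayama.eq_top_of_sup_smul_top_of_isNilpotent I hI
    rw [eq_top_iff]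
    intro y _
    obtain ⟨x, hx⟩ := hs y
    have : y = f x + (y - f x) := by abel
    rw [this]
    exact Submodule.add_mem_sup (LinearMap.mem_range_self f x) hx
  refine ⟨?_, hsurj⟩
  apply Groth.Agent.Lib.Helper6.ArtinFlat.injective_of_flat_of_nilpotent I hI f hsurj
  rw [injective_iff_map_eq_zero]
  intro w hw
  obtain ⟨x, rfl⟩ := TensorProduct.mk_surjective A M (A ⧸ I) Ideal.Quotient.mk_surjective w
  rw [TensorProduct.mk_apply, LinearMap.lTensor_tmul] at hw
  have h1 : f x ∈ LinearMap.ker (TensorProduct.mk A (A ⧸ I) N 1) := hw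
  rw [LinearMap.ker_tensorProductMk] at h1
  have h2 := hi x h1
  rw [← LinearMap.ker_tensorProductMk] at h2
  exact h2

end Module

section Ring

variable {A B₁ B₂ B₀ : Type*} [CommRing A] [CommRing B₁] [CommRing B₂] [CommRing B₀]

theorem bijective_of_deformation_hom (I : Ideal A) (hI : IsNilpotent I)
    (α₁ : A →+* B₁) (hα₁ : α₁.Flat) (α₂ : A →+* B₂) (ψ : B₂ →+* B₁) (hψ : ψ.comp α₂ = α₁)
    (π₁ : B₁ →+* B₀) (π₂ : B₂ →+* B₀) (hπ₂ : Function.Surjective π₂)
    (hk₁ : RingHom.ker π₁ = I.map α₁) (hk₂ : RingHom.ker π₂ = I.map α₂)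
    (hπ : π₁.comp ψ = π₂) : Function.Bijective ψ := by
  letI := α₁.toAlgebra
  letI := α₂.toAlgebra
  have hfl : Module.Flat A B₁ := hα₁
  have hψa : ∀ a, ψ (algebraMap A B₂ a) = algebraMap A B₁ a := fun a => RingHom.congr_fun hψ a
  have hπa : ∀ z, π₁ (ψ z) = π₂ z := fun z => RingHom.congr_fun hπ z
  let ψl : B₂ →ₗ[A] B₁ :=
    { toFun := ψ
      map_add' := map_add ψ
      map_smul' := fun a b => by
        rw [Algebra.smul_def, map_mul, hψa, RingHom.id_apply, Algebra.smul_def] }
  have hmem₁ : ∀ y : B₁, y ∈ I • (⊤ : Submodule A B₁) ↔ π₁ y = 0 := by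
    intro y
    rw [Ideal.smul_top_eq_map, Submodule.restrictScalars_mem, ← RingHom.mem_ker, hk₁]
    rfl
  have hmem₂ : ∀ y : B₂, y ∈ I • (⊤ : Submodule A B₂) ↔ π₂ y = 0 := by
    intro y
    rw [Ideal.smul_top_eq_map, Submodule.restrictScalars_mem, ← RingHom.mem_ker, hk₂]
    rfl
  have := bijective_of_flat_of_nilpotent I hI ψl
    (by
      intro y
      obtain ⟨z, hz⟩ := hπ₂ (π₁ y)
      refine ⟨z, ?_⟩
      rw [hmem₁]
      change π₁ (y - ψ z) = 0
      rw [map_sub, hπa, hz, sub_self])
    (by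
      intro z hz
      rw [hmem₁] at hz
      rw [hmem₂, ← hπa]
      exact hz)
  exact this

end Ring

end Groth.Agent.Lib.Helper97.DefAff
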