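import Groth.Agent.Lib.Helper97.DefAff.RingData
import Groth.Agent.Lib.Helper97.DefAff.RingIso

/-!
# A morphism of affine flat deformations over a nilpotent base is an isomorphism
-/

set_option autoImplicit false

namespace Groth.Agent.Lib.Helper97.DefAff

open CategoryTheory CategoryTheory.Limits AlgebraicGeometry

universe u

variable {k A : Type u} [CommRing k] [CommRing A] (e : A →+* k)

lemma le_nilradical_of_isNilpotent {I : Ideal A} (hI : IsNilpotent I) : I ≤ nilradical A := by
  obtain ⟨n, hn⟩ := hI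
  intro a ha
  refine ⟨n, ?_⟩
  have h1 : a ^ n ∈ I ^ n := Ideal.pow_mem_pow ha n
  rw [hn] at h1
  exact h1

variable {X X' X'' : Scheme.{u}} {i : X ⟶ X'} {i' : X ⟶ X''} {x : X ⟶ Spec (CommRingCat.of k)}
  {g : X' ⟶ Spec (CommRingCat.of A)} {g' : X'' ⟶ Spec (CommRingCat.of A)}

theorem bijective_appTop_of_hom [IsAffine X'] [IsAffine X''] [Flat g]
    (he : Function.Surjective e) (hnil : IsNilpotent (RingHom.ker e))
    (hsq : IsPullback i x g (Spec.map (CommRingCat.ofHom e)))
    (hsq' : IsPullback i' x g' (Spec.map (CommRingCat.ofHom e)))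
    (ψ : X' ⟶ X'') (hψg : ψ ≫ g' = g) (hψi : i ≫ ψ = i') :
    Function.Bijective ψ.appTop.hom := by
  refine bijective_of_deformation_hom (RingHom.ker e) hnil (baseMap g) flat_baseMap (baseMap g')
    ψ.appTop.hom ?_ i.appTop.hom i'.appTop.hom (appTop_surjective e he hsq')
    (ker_appTop e he hsq) (ker_appTop e he hsq') ?_
  · subst hψg
    ext a
    rfl
  · subst hψi
    ext a
    rfl

theorem isIso_of_hom [IsAffine X] [Flat g]
    (he : Function.Surjective e) (hnil : IsNilpotent (RingHom.ker e))
    (hsq : IsPullback i x g (Spec.map (CommRingCat.ofHom e)))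
    (hsq' : IsPullback i' x g' (Spec.map (CommRingCat.ofHom e)))
    (ψ : X' ⟶ X'') (hψg : ψ ≫ g' = g) (hψi : i ≫ ψ = i') : IsIso ψ := by
  have _ : IsAffine X' := isAffine_of_isPullback e he (le_nilradical_of_isNilpotent hnil) hsq
  have _ : IsAffine X'' := isAffine_of_isPullback e he (le_nilradical_of_isNilpotent hnil) hsq'
  have hbij := bijective_appTop_of_hom e he hnil hsq hsq' ψ hψg hψi
  have h1 : IsIso ψ.appTop := (ConcreteCategory.isIso_iff_bijective _).mpr hbij
  have h2 : MorphismProperty.isomorphisms Scheme ψ :=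
    (HasAffineProperty.iff_of_isAffine (P := MorphismProperty.isomorphisms Scheme)).mpr
      ⟨inferInstance, h1⟩
  exact h2

end Groth.Agent.Lib.Helper97.DefAff
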