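import Groth.Agent.Lib.Helper97.DefAff.Affine

/-!
# The ring data of an affine deformation
-/

set_option autoImplicit false

namespace Groth.Agent.Lib.Helper97.DefAff

open CategoryTheory CategoryTheory.Limits AlgebraicGeometry

universe u

variable {k A : Type u} [CommRing k] [CommRing A] (e : A →+* k)
variable {X X' : Scheme.{u}} {i : X ⟶ X'} {x : X ⟶ Spec (CommRingCat.of k)}
  (g : X' ⟶ Spec (CommRingCat.of A))

/-- The ring map `A → Γ(X', O)` of a morphism `X' → Spec A`. -/
noncomputable def baseMap : A →+* Γ(X', ⊤) :=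
  g.appTop.hom.comp (Scheme.ΓSpecIso (CommRingCat.of A)).inv.hom

lemma baseMap_apply (a : A) :
    baseMap g a = g.appTop.hom ((Scheme.ΓSpecIso (CommRingCat.of A)).inv.hom a) := rfl

lemma ker_specMap_appTop (z : Γ(Spec (CommRingCat.of A), ⊤)) :
    (Spec.map (CommRingCat.ofHom e)).appTop.hom z = 0 ↔
      ∃ a : A, e a = 0 ∧ z = (Scheme.ΓSpecIso (CommRingCat.of A)).inv.hom a := by
  have hnat := Scheme.ΓSpecIso_naturality (CommRingCat.ofHom e)
  have hnat' : ∀ z, (Scheme.ΓSpecIso (CommRingCat.of k)).hom.hom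
      ((Spec.map (CommRingCat.ofHom e)).appTop.hom z) =
      e ((Scheme.ΓSpecIso (CommRingCat.of A)).hom.hom z) := by
    intro z
    exact congrArg (fun f => f.hom z) hnat
  have hinj : Function.Injective (Scheme.ΓSpecIso (CommRingCat.of k)).hom.hom :=
    ((ConcreteCategory.isIso_iff_bijective _).mp inferInstance).1
  constructor
  · intro hz
    refine ⟨(Scheme.ΓSpecIso (CommRingCat.of A)).hom.hom z, ?_, ?_⟩
    · rw [← hnat', hz, map_zero]
    · exact (congrArg (fun f => f.hom z) (Scheme.ΓSpecIso (CommRingCat.of A)).hom_inv_id).symm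
  · rintro ⟨a, ha, rfl⟩
    apply hinj
    rw [hnat', map_zero]
    have : (Scheme.ΓSpecIso (CommRingCat.of A)).hom.hom
        ((Scheme.ΓSpecIso (CommRingCat.of A)).inv.hom a) = a :=
      congrArg (fun f => f.hom a) (Scheme.ΓSpecIso (CommRingCat.of A)).inv_hom_id
    rw [this, ha]

variable {g}

theorem appTop_surjective [IsAffine X'] (he : Function.Surjective e)
    (hsq : IsPullback i x g (Spec.map (CommRingCat.ofHom e))) :
    Function.Surjective i.appTop.hom := by
  have _ : IsClosedImmersion (Spec.map (CommRingCat.ofHom e)) :=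
    IsClosedImmersion.spec_of_surjective _ he
  exact (Groth.Agent.Lib.Helper6.ThickAffine.ring_data hsq (isAffineOpen_top _)
    (isAffineOpen_top X') (U' := ⊤) (W' := ⊤) le_rfl).1

theorem ker_appTop [IsAffine X'] (he : Function.Surjective e)
    (hsq : IsPullback i x g (Spec.map (CommRingCat.ofHom e))) :
    RingHom.ker i.appTop.hom = (RingHom.ker e).map (baseMap g) := by
  have _ : IsClosedImmersion (Spec.map (CommRingCat.ofHom e)) :=
    IsClosedImmersion.spec_of_surjective _ he
  have h := (Groth.Agent.Lib.Helper6.ThickAffine.ring_data hsq (isAffineOpen_top _)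
    (isAffineOpen_top X') (U' := ⊤) (W' := ⊤) le_rfl).2
  have h1 : g.appLE ⊤ ⊤ le_rfl = g.appTop := Scheme.Hom.appLE_eq_app g
  rw [h1] at h
  change RingHom.ker (i.app ⊤).hom = _
  rw [h]
  apply le_antisymm
  · rw [Ideal.map_le_iff_le_comap]
    intro z hz
    rw [RingHom.mem_ker] at hz
    obtain ⟨a, ha, rfl⟩ := (ker_specMap_appTop e z).mp hz
    rw [Ideal.mem_comap]
    exact Ideal.mem_map_of_mem (baseMap g) (RingHom.mem_ker.mpr ha)
  · rw [Ideal.map_le_iff_le_comap]
    intro a ha
    rw [Ideal.mem_comap, baseMap_apply]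
    apply Ideal.mem_map_of_mem
    rw [RingHom.mem_ker]
    exact (ker_specMap_appTop e _).mpr ⟨a, RingHom.mem_ker.mp ha, rfl⟩

theorem flat_baseMap [IsAffine X'] [Flat g] : (baseMap g).Flat := by
  have h1 : g.appTop.hom.Flat := (HasRingHomProperty.iff_of_isAffine (P := @Flat)).mp inferInstance
  have h2 : Function.Bijective (Scheme.ΓSpecIso (CommRingCat.of A)).inv.hom :=
    (ConcreteCategory.isIso_iff_bijective _).mp inferInstance
  exact RingHom.Flat.comp (RingHom.Flat.of_bijective h2) h1

end Groth.Agent.Lib.Helper97.DefAff
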