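import Groth.Agent.Lib.Helper97.DefAff.Trivial
import Groth.Agent.Lib.Helper51.SmoothStalk

/-!
# Infinitesimal deformations of a smooth affine scheme are trivial
-/

set_option autoImplicit false

namespace Groth.Agent.Lib.Helper97.DefAff

open CategoryTheory CategoryTheory.Limits AlgebraicGeometry

universe u

section Ring

variable {k B B' : Type*} [CommRing k] [CommRing B] [CommRing B']

theorem exists_section_of_formallySmooth (β : k →+* B) (hβ : β.FormallySmooth) (β' : k →+* B')
    (π : B' →+* B) (hπ : Function.Surjective π) (hnil : IsNilpotent (RingHom.ker π))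
    (hc : π.comp β' = β) :
    ∃ s : B →+* B', π.comp s = RingHom.id B ∧ s.comp β = β' := by
  letI := β.toAlgebra
  letI := β'.toAlgebra
  have _ : Algebra.FormallySmooth k B := hβ
  let πa : B' →ₐ[k] B := { π with commutes' := fun c => RingHom.congr_fun hc c }
  have hπa : Function.Surjective πa := hπ
  let s := Algebra.FormallySmooth.liftOfSurjective (AlgHom.id k B) πa hπa hnil
  refine ⟨s.toRingHom, ?_, ?_⟩
  · ext b
    exact Algebra.FormallySmooth.liftOfSurjective_apply (AlgHom.id k B) πa hπa hnil b
  · ext c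
    exact s.commutes c

end Ring

lemma isNilpotent_ker_of_isArtinianRing {A k : Type*} [CommRing A] [IsLocalRing A]
    [IsArtinianRing A] [CommRing k] [Nontrivial k] (e : A →+* k) : IsNilpotent (RingHom.ker e) := by
  have h1 : RingHom.ker e ≤ IsLocalRing.maximalIdeal A :=
    IsLocalRing.le_maximalIdeal (RingHom.ker_ne_top e)
  have h2 : IsNilpotent (IsLocalRing.maximalIdeal A) := by
    rw [← IsLocalRing.jacobson_eq_maximalIdeal (⊥ : Ideal A) bot_ne_top]
    exact IsArtinianRing.isNilpotent_jacobson_bot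
  obtain ⟨n, hn⟩ := h2
  refine ⟨n, ?_⟩
  rw [Ideal.zero_eq_bot, ← le_bot_iff, ← Ideal.zero_eq_bot, ← hn]
  exact Ideal.pow_right_mono h1 n

lemma isNilpotent_map {A B : Type*} [CommRing A] [CommRing B] (f : A →+* B) {I : Ideal A}
    (hI : IsNilpotent I) : IsNilpotent (I.map f) := by
  obtain ⟨n, hn⟩ := hI
  refine ⟨n, ?_⟩
  rw [← Ideal.map_pow, hn, Ideal.zero_eq_bot, Ideal.map_bot]
  rfl

variable {k A : Type u} [Field k] [CommRing A] [Algebra k A] (e : A →ₐ[k] k)
variable {X X' : Scheme.{u}} {hX : X ⟶ Spec (CommRingCat.of k)} {i : X ⟶ X'}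
  {g : X' ⟶ Spec (CommRingCat.of A)}

lemma appTop_comp_baseMap (hsq : IsPullback i hX g (Spec.map (CommRingCat.ofHom e.toRingHom))) :
    i.appTop.hom.comp (baseMap g) = (baseMap hX).comp e.toRingHom := by
  have hw := hsq.w
  have h1 : (i ≫ g).appTop = (hX ≫ Spec.map (CommRingCat.ofHom e.toRingHom)).appTop := by rw [hw]
  rw [Scheme.Hom.comp_appTop, Scheme.Hom.comp_appTop] at h1
  have hnat := Scheme.ΓSpecIso_inv_naturality (CommRingCat.ofHom e.toRingHom)
  ext a
  have h2 := congrArg (fun f => f.hom ((Scheme.ΓSpecIso (CommRingCat.of A)).inv.hom a)) h1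
  have h3 := congrArg (fun f => f.hom a) hnat
  change i.appTop.hom (g.appTop.hom ((Scheme.ΓSpecIso (CommRingCat.of A)).inv.hom a)) =
    hX.appTop.hom ((Scheme.ΓSpecIso (CommRingCat.of k)).inv.hom (e a))
  change (Scheme.ΓSpecIso (CommRingCat.of k)).inv.hom (e a) =
    (Spec.map (CommRingCat.ofHom e.toRingHom)).appTop.hom
      ((Scheme.ΓSpecIso (CommRingCat.of A)).inv.hom a) at h3
  rw [h3]
  exact h2

theorem exists_iso_trivial_of_smooth [IsAffine X] [Flat g] [Smooth hX]
    (hnil : IsNilpotent (RingHom.ker e.toRingHom))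
    (hsq : IsPullback i hX g (Spec.map (CommRingCat.ofHom e.toRingHom))) :
    ∃ φ : X' ≅ pullback hX (Spec.map (CommRingCat.ofHom (algebraMap k A))),
      φ.hom ≫ pullback.snd hX (Spec.map (CommRingCat.ofHom (algebraMap k A))) = g ∧
        i ≫ φ.hom = trivIncl e hX := by
  have he : Function.Surjective e.toRingHom := fun c => ⟨algebraMap k A c, e.commutes c⟩
  have _ : IsAffine X' :=
    isAffine_of_isPullback e.toRingHom he (le_nilradical_of_isNilpotent hnil) hsq
  have hsm : hX.appTop.hom.Smooth :=
    (HasRingHomProperty.iff_of_isAffine (P := @Smooth)).mp inferInstance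
  have hβ : (baseMap hX).FormallySmooth := by
    have h2 : Function.Bijective (Scheme.ΓSpecIso (CommRingCat.of k)).inv.hom :=
      (ConcreteCategory.isIso_iff_bijective _).mp inferInstance
    exact RingHom.FormallySmooth.comp (RingHom.FormallySmooth.of_bijective h2) hsm.formallySmooth
  have hk := ker_appTop e.toRingHom he hsq
  have hc : i.appTop.hom.comp ((baseMap g).comp (algebraMap k A)) = baseMap hX := by
    rw [← RingHom.comp_assoc, appTop_comp_baseMap e hsq, RingHom.comp_assoc]
    have : e.toRingHom.comp (algebraMap k A) = RingHom.id k := by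
      ext c
      exact e.commutes c
    rw [this, RingHom.comp_id]
  obtain ⟨s, hs1, hs2⟩ := exists_section_of_formallySmooth (baseMap hX) hβ
    ((baseMap g).comp (algebraMap k A)) i.appTop.hom (appTop_surjective e.toRingHom he hsq)
    (by rw [hk]; exact isNilpotent_map _ hnil) hc
  exact exists_iso_trivial_of_section hnil hsq s hs1 hs2

end Groth.Agent.Lib.Helper97.DefAff
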