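import Groth.Agent.Lib.Helper97.DefAff.RingData

/-!
# Morphisms to affine schemes from ring maps on global sections
-/

set_option autoImplicit false

namespace Groth.Agent.Lib.Helper97.DefAff

open CategoryTheory CategoryTheory.Limits AlgebraicGeometry

universe u

lemma eq_toSpecΓ_comp {Y : Scheme.{u}} {R : CommRingCat.{u}} (f : Y ⟶ Spec R) :
    f = Y.toSpecΓ ≫ Spec.map ((Scheme.ΓSpecIso R).inv ≫ f.appTop) := by
  rw [Spec.map_comp, ← Category.assoc, ← Scheme.toSpecΓ_naturality, Category.assoc,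
    toSpecΓ_SpecMap_ΓSpecIso_inv, Category.comp_id]

/-- The morphism `Y ⟶ X` to an affine scheme attached to a ring map `Γ(X) ⟶ Γ(Y)`. -/
noncomputable def ofRing {X Y : Scheme.{u}} [IsAffine X] (φ : Γ(X, ⊤) ⟶ Γ(Y, ⊤)) : Y ⟶ X :=
  Y.toSpecΓ ≫ Spec.map φ ≫ X.isoSpec.inv

lemma comp_ofRing {X Y Z : Scheme.{u}} [IsAffine X] (h : Z ⟶ Y) (φ : Γ(X, ⊤) ⟶ Γ(Y, ⊤)) :
    h ≫ ofRing φ = ofRing (φ ≫ h.appTop) := by
  unfold ofRing
  rw [← Category.assoc, Scheme.toSpecΓ_naturality, Category.assoc, Spec.map_comp, Category.assoc]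

lemma ofRing_id {X : Scheme.{u}} [IsAffine X] : ofRing (𝟙 Γ(X, ⊤)) = 𝟙 X := by
  unfold ofRing
  rw [Spec.map_id, Category.id_comp]
  exact X.isoSpec.hom_inv_id

lemma ofRing_comp_toSpec {X Y : Scheme.{u}} [IsAffine X] {R : CommRingCat.{u}}
    (φ : Γ(X, ⊤) ⟶ Γ(Y, ⊤)) (f : X ⟶ Spec R) :
    ofRing φ ≫ f = Y.toSpecΓ ≫ Spec.map ((Scheme.ΓSpecIso R).inv ≫ f.appTop ≫ φ) := by
  unfold ofRing
  conv_lhs => rw [eq_toSpecΓ_comp f]
  have h1 : X.isoSpec.inv ≫ X.toSpecΓ = 𝟙 _ := X.isoSpec.inv_hom_id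
  rw [Category.assoc, Category.assoc, ← Category.assoc X.isoSpec.inv, h1, Category.id_comp,
    ← Spec.map_comp, Category.assoc]

end Groth.Agent.Lib.Helper97.DefAff
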