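import Groth.Agent.Lib.Helper97.DefAff.IsoHom
import Groth.Agent.Lib.Helper97.DefAff.ToSpec

/-!
# A deformation with a section of rings is the trivial deformation
-/

set_option autoImplicit false

namespace Groth.Agent.Lib.Helper97.DefAff

open CategoryTheory CategoryTheory.Limits AlgebraicGeometry

universe u

variable {k A : Type u} [Field k] [CommRing A] [Algebra k A] (e : A →ₐ[k] k)
variable {X : Scheme.{u}} (hX : X ⟶ Spec (CommRingCat.of k))

lemma specMap_res_comp_specMap_algebraMap :
    Spec.map (CommRingCat.ofHom e.toRingHom) ≫ Spec.map (CommRingCat.ofHom (algebraMap k A)) =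
      𝟙 _ := by
  rw [← Spec.map_comp, ← CommRingCat.ofHom_comp]
  have : e.toRingHom.comp (algebraMap k A) = RingHom.id k := by
    ext c
    exact e.commutes c
  rw [this, CommRingCat.ofHom_id, Spec.map_id]

/-- The inclusion of `X` as the closed fibre of the product family `X ×_k Spec A`. -/
noncomputable def trivIncl : X ⟶ pullback hX (Spec.map (CommRingCat.ofHom (algebraMap k A))) :=
  pullback.lift (𝟙 X) (hX ≫ Spec.map (CommRingCat.ofHom e.toRingHom)) (by
    rw [Category.id_comp, Category.assoc, specMap_res_comp_specMap_algebraMap, Category.comp_id])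

lemma isPullback_trivIncl :
    IsPullback (trivIncl e hX) hX (pullback.snd hX (Spec.map (CommRingCat.ofHom (algebraMap k A))))
      (Spec.map (CommRingCat.ofHom e.toRingHom)) := by
  refine IsPullback.of_right ?_ (pullback.lift_snd _ _ _)
    (IsPullback.of_hasPullback hX (Spec.map (CommRingCat.ofHom (algebraMap k A))))
  unfold trivIncl
  rw [pullback.lift_fst, specMap_res_comp_specMap_algebraMap]
  exact IsPullback.of_horiz_isIso ⟨by rw [Category.id_comp, Category.comp_id]⟩

variable {e hX}
variable {X' : Scheme.{u}} {i : X ⟶ X'} {g : X' ⟶ Spec (CommRingCat.of A)}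

theorem exists_iso_trivial_of_section [IsAffine X] [Flat g]
    (hnil : IsNilpotent (RingHom.ker e.toRingHom))
    (hsq : IsPullback i hX g (Spec.map (CommRingCat.ofHom e.toRingHom)))
    (s : Γ(X, ⊤) →+* Γ(X', ⊤)) (hs : i.appTop.hom.comp s = RingHom.id _)
    (hsk : s.comp (baseMap hX) = (baseMap g).comp (algebraMap k A)) :
    ∃ φ : X' ≅ pullback hX (Spec.map (CommRingCat.ofHom (algebraMap k A))),
      φ.hom ≫ pullback.snd hX (Spec.map (CommRingCat.ofHom (algebraMap k A))) = g ∧
        i ≫ φ.hom = trivIncl e hX := by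
  have he : Function.Surjective e.toRingHom := fun c => ⟨algebraMap k A c, e.commutes c⟩
  let r : X' ⟶ X := ofRing (CommRingCat.ofHom s)
  have hir : i ≫ r = 𝟙 X := by
    rw [comp_ofRing]
    have : CommRingCat.ofHom s ≫ i.appTop = 𝟙 _ := by
      ext a
      exact RingHom.congr_fun hs a
    rw [this]
    exact ofRing_id
  have hr : r ≫ hX = g ≫ Spec.map (CommRingCat.ofHom (algebraMap k A)) := by
    rw [ofRing_comp_toSpec]
    conv_rhs => rw [eq_toSpecΓ_comp g]
    rw [Category.assoc, ← Spec.map_comp]
    congr 2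
    ext c
    exact RingHom.congr_fun hsk c
  let φ₀ : X' ⟶ pullback hX (Spec.map (CommRingCat.ofHom (algebraMap k A))) :=
    pullback.lift r g hr
  have h1 : φ₀ ≫ pullback.snd hX (Spec.map (CommRingCat.ofHom (algebraMap k A))) = g :=
    pullback.lift_snd _ _ _
  have h2 : i ≫ φ₀ = trivIncl e hX := by
    apply pullback.hom_ext
    · rw [Category.assoc, pullback.lift_fst, hir]
      exact (pullback.lift_fst _ _ _).symm
    · rw [Category.assoc, pullback.lift_snd, hsq.w]
      exact (pullback.lift_snd _ _ _).symm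
  have _ : IsIso φ₀ :=
    isIso_of_hom e.toRingHom he hnil hsq (isPullback_trivIncl e hX) φ₀ h1 h2
  exact ⟨asIso φ₀, h1, h2⟩

end Groth.Agent.Lib.Helper97.DefAff
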